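import Groth.Agent.MatTree.Incidence
import Mathlib.RingTheory.PrincipalIdealDomain
import Mathlib.RingTheory.Int.Basic
import Mathlib.Data.Nat.Factorization.Basic
import Mathlib.Tactic

/-!
# Potentials and cycles on finite multigraphs
-/

namespace Groth.Agent.GraphCochain

open Finset LabGraph MatTree

set_option linter.unusedSectionVars false

universe u

variable {V E : Type u} [Fintype V] [Fintype E] [DecidableEq V] [DecidableEq E]
  {ends : E → V × V}

/-- A property that passes along every edge of `S` passes along reachability. -/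
theorem eq_of_reach {α : Type*} {S : Finset E} {g : V → α}
    (h : ∀ e ∈ S, g (ends e).1 = g (ends e).2) {a b : V} (hab : Reach ends S a b) : g a = g b := by
  induction hab with
  | refl => rfl
  | tail _ hs ih =>
    obtain ⟨e, he, he'⟩ := hs
    rw [ih]
    rcases he' with he' | he' <;> have := h e he <;> rw [he'] at this
    · exact this
    · exact this.symm

/-- In an even edge set, the endpoints of an edge are joined by the other edges. -/
theorem reach_erase {C : Finset E} (hC : ∀ v, Even (endCount ends C v)) {e : E} (he : e ∈ C) :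
    Reach ends (C.erase e) (ends e).1 (ends e).2 := by
  classical
  by_contra h2
  let R : Finset V := univ.filter fun v => Reach ends (C.erase e) (ends e).1 v
  have hR : ∀ d ∈ C.erase e, ((ends d).1 ∈ R ↔ (ends d).2 ∈ R) := fun d hd => by
    simp only [R, mem_filter, mem_univ, true_and]
    exact ⟨fun h => h.tail (adjS_ends hd), fun h => h.tail (adjS_symm (adjS_ends hd))⟩
  have h1 : (ends e).1 ∈ R := by simp [R, Relation.ReflTransGen.refl]
  have h2' : (ends e).2 ∉ R := by simpa [R] using h2
  have hev : Even (∑ d ∈ C, ∑ v ∈ R, endCount ends {d} v) := by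
    rw [Finset.sum_comm]
    simp only [← endCount_eq_sum]
    exact Finset.even_sum _ fun v _ => hC v
  rw [← Finset.add_sum_erase _ _ he, sum_endCount, if_pos h1, if_neg h2', add_zero] at hev
  have hev' : Even (∑ d ∈ C.erase e, ∑ v ∈ R, endCount ends {d} v) := by
    refine Finset.even_sum _ fun d hd => ?_
    rw [sum_endCount]
    by_cases h : (ends d).1 ∈ R
    · rw [if_pos h, if_pos ((hR d hd).1 h)]; exact ⟨1, rfl⟩
    · rw [if_neg h, if_neg (fun h' => h ((hR d hd).2 h'))]; exact ⟨0, rfl⟩
  rcases hev with ⟨a, ha⟩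
  rcases hev' with ⟨b, hb⟩
  omega

/-- An edge whose endpoints are joined outside it lies on a circuit. -/
theorem exists_circuit_of_reach {S : Finset E} {e : E} (he : e ∉ S)
    (h : Reach ends S (ends e).1 (ends e).2) : ∃ C ⊆ insert e S, IsCircuit ends C := by
  obtain ⟨P, hP, hP'⟩ := exists_parity h
  have heP : e ∉ P := fun h => he (hP h)
  obtain ⟨C, hC, hC'⟩ := exists_circuit (ends := ends) (S := insert e P) (insert_nonempty _ _) (fun v => by
    have h2 : ∀ x : ZMod 2, x + x = 0 := by decide
    rw [← ZMod.natCast_eq_zero_iff_even, endCount_eq_sum, sum_insert heP, ← endCount_eq_sum]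
    push_cast
    rw [hP', endCount_singleton]
    push_cast
    exact h2 _)
  exact ⟨C, hC.trans (insert_subset_insert _ hP), hC'⟩

/-- A forest carries any prescribed differences. -/
theorem exists_potential {S : Finset E} (hS : NoCirc ends S) (x : E → ℤ) :
    ∃ g : V → ℤ, ∀ e ∈ S, g (ends e).2 - g (ends e).1 = x e := by
  classical
  induction S using Finset.induction_on with
  | empty => exact ⟨0, fun e he => absurd he (notMem_empty e)⟩
  | @insert e S he ih =>
    obtain ⟨g, hg⟩ := ih fun C hC => hS C (hC.trans (subset_insert _ _))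
    have hnr : ¬ Reach ends S (ends e).2 (ends e).1 := fun h => by
      obtain ⟨C, hC, hC'⟩ := exists_circuit_of_reach he (reach_symm h)
      exact hS C hC hC'
    let c := x e - (g (ends e).2 - g (ends e).1)
    refine ⟨fun v => if Reach ends S (ends e).2 v then g v + c else g v, fun d hd => ?_⟩
    rcases mem_insert.1 hd with rfl | hd
    · simp only [if_pos Relation.ReflTransGen.refl, if_neg hnr, c]; ring
    · by_cases h : Reach ends S (ends e).2 (ends d).1
      · simp only [if_pos h, if_pos (h.tail (adjS_ends hd)), ← hg d hd]; ring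
      · simp only [if_neg h, if_neg (show ¬ Reach ends S (ends e).2 (ends d).2 from fun h' => h (h'.tail (adjS_symm (adjS_ends hd)))), ← hg d hd]

theorem boundary_eq (γ : E → ℤ) (v : V) : boundary ends γ v = ∑ e, γ e * inc ends e v := by
  unfold boundary inc
  refine sum_congr rfl fun e _ => ?_
  split_ifs <;> ring

/-- Every edge of a circuit lies on an integral cycle carried by the circuit. -/
theorem exists_cycle {C : Finset E} (hC : IsCircuit ends C) {e : E} (he : e ∈ C) :
    ∃ γ : E → ℤ, (∀ v, boundary ends γ v = 0) ∧ γ e = 1 ∧ ∀ d ∉ C, γ d = 0 := by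
  obtain ⟨c, hc, hc'⟩ := exists_chain (reach_erase hC.2.1 he)
  refine ⟨(Pi.single e 1 : E → ℤ) - c, fun v => ?_, ?_, fun d hd => ?_⟩
  · simp only [boundary_eq, Pi.sub_apply, sub_mul, sum_sub_distrib, hc']
    simp [Pi.single_apply, ite_mul, inc]
  · simp [hc e (notMem_erase _ _)]
  · simp [hc d (fun h => hd (erase_subset _ _ h)), show d ≠ e from fun h => hd (h ▸ he)]

/-- Cycles are orthogonal to differences. -/
theorem sum_mul_dif {γ : E → ℤ} (hγ : ∀ v, boundary ends γ v = 0) (g : V → ℤ) :
    ∑ e, γ e * (g (ends e).2 - g (ends e).1) = 0 := by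
  simp only [← sum_inc, mul_sum]
  rw [Finset.sum_comm]
  refine sum_eq_zero fun v _ => ?_
  simp only [← mul_assoc, ← sum_mul, ← boundary_eq, hγ v, zero_mul]

/-- An edge vector orthogonal to every cycle is a difference. -/
theorem exists_dif_of_orth (hG : Connected ends) (z : E → ℤ)
    (hz : ∀ γ : E → ℤ, (∀ v, boundary ends γ v = 0) → ∑ e, γ e * z e = 0) :
    ∃ g : V → ℤ, ∀ e, g (ends e).2 - g (ends e).1 = z e := by
  classical
  haveI := hG.1
  obtain ⟨T, -, hT⟩ := exists_tree (spans_univ hG)
  obtain ⟨-, hspan, hno⟩ := isSpanningTree_iff.1 hT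
  obtain ⟨g, hg⟩ := exists_potential hno z
  refine ⟨g, fun e => ?_⟩
  by_cases he : e ∈ T
  · exact hg e he
  · obtain ⟨C, hC, hC'⟩ := exists_circuit_of_reach he (hspan (ends e).1 (ends e).2)
    have heC : e ∈ C := by
      by_contra h
      exact hno C ((subset_insert_iff_of_notMem h).1 hC) hC'
    obtain ⟨γ, hγ, hγe, hγ'⟩ := exists_cycle hC' heC
    have h1 := hz γ hγ
    have h2 := sum_mul_dif hγ g
    have h3 : ∑ d, γ d * (g (ends d).2 - g (ends d).1 - z d) = 0 := by
      simp only [mul_sub, sum_sub_distrib] at h1 h2 ⊢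
      linarith
    rw [Finset.sum_eq_single e (fun d _ hd => ?_) (fun h => absurd (mem_univ e) h), hγe, one_mul] at h3
    · linarith
    · by_cases hdC : d ∈ C
      · rw [hg d ((mem_insert.1 (hC hdC)).resolve_left hd)]; ring
      · rw [hγ' d hdC, zero_mul]

/-- Membership in a subgroup can be tested at each prime. -/
theorem mem_of_local {M : Type*} [AddCommGroup M] (H : Submodule ℤ M) (x : M)
    (h : ∀ p : ℕ, p.Prime → ∃ c : ℤ, ¬ (p : ℤ) ∣ c ∧ c • x ∈ H) : x ∈ H := by
  let J : Ideal ℤ := Submodule.comap (LinearMap.toSpanSingleton ℤ M x) H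
  obtain ⟨c0, hc0⟩ := IsPrincipalIdealRing.principal J
  have hmem : ∀ c : ℤ, c • x ∈ H ↔ c0 ∣ c := fun c => by
    show c ∈ J ↔ _
    rw [hc0]; exact Ideal.mem_span_singleton
  by_cases h1 : c0.natAbs = 1
  · have : c0 ∣ 1 := Int.natAbs_dvd_natAbs.1 (by simp [h1])
    simpa using (hmem 1).2 this
  · obtain ⟨p, hp, hpd⟩ := Nat.exists_prime_and_dvd h1
    obtain ⟨c, hc, hcx⟩ := h p hp
    exact absurd ((Int.natCast_dvd.2 hpd).trans ((hmem c).1 hcx)) hc

end Groth.Agent.GraphCochain
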