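import Groth.Prelude.Def_W4c1nerontoraddGraph
import Mathlib.Tactic

/-!
# The multidegree on the total blow-up graph
-/

namespace Groth.Agent.GraphCochain

open Finset LabGraph

set_option linter.unusedSectionVars false

universe u

variable {V E : Type u} [Fintype V] [Fintype E] [DecidableEq V] [DecidableEq E]
  (ends : E → V × V) (l : E → ℕ)

/-- Increment of a labelling along the `k`-th edge of the path replacing `e`. -/
def stepD (ψ : BlVert V E l → ℤ) (e : E) (k : ℕ) : ℤ :=
  ψ (pathVert ends l e (k + 1)) - ψ (pathVert ends l e k)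

theorem pathVert_zero (e : E) : pathVert ends l e 0 = Sum.inl (ends e).1 := rfl

theorem pathVert_end (hl : ∀ e, 0 < l e) (e : E) : pathVert ends l e (l e) = Sum.inl (ends e).2 := by
  rw [pathVert, dif_neg (hl e).ne', dif_neg (lt_irrefl _)]

theorem pathVert_mid (e : E) (i : ℕ) (hi : i + 1 < l e) :
    pathVert ends l e (i + 1) = Sum.inr ⟨e, ⟨i, by omega⟩⟩ := by
  rw [pathVert, dif_neg (Nat.succ_ne_zero i), dif_pos hi]
  simp

theorem pathVert_eq_inr (e e' : E) (k : ℕ) (i : Fin (l e - 1)) (hk : k ≤ l e') :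
    pathVert ends l e' k = Sum.inr ⟨e, i⟩ ↔ e' = e ∧ k = i.val + 1 := by
  have := i.isLt
  unfold pathVert
  split_ifs with h0 h
  · simp [h0]
  · simp only [Sum.inr.injEq, Sigma.mk.injEq]
    refine ⟨?_, ?_⟩
    · rintro ⟨rfl, h2⟩
      refine ⟨rfl, ?_⟩
      have := congrArg Fin.val (eq_of_heq h2)
      simp at this
      omega
    · rintro ⟨rfl, rfl⟩
      exact ⟨rfl, by simp⟩
  · simp only [false_iff, not_and, reduceCtorEq]
    rintro rfl
    omega

theorem pathVert_eq_inl (e : E) (k : ℕ) (v : V) (hk : k ≤ l e) :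
    pathVert ends l e k = Sum.inl v ↔ (k = 0 ∧ (ends e).1 = v) ∨ (k ≠ 0 ∧ k = l e ∧ (ends e).2 = v) := by
  unfold pathVert
  split_ifs with h0 h
  · simp [h0]
  · simp [h0]; omega
  · have : k = l e := by omega
    simp [h0, this, show l e ≠ 0 by omega]

theorem mdeg_eq (ψ : BlVert V E l → ℤ) (w : BlVert V E l) :
    mdeg (blEnds ends l) (fun _ => 1) ψ w =
      ∑ e, ∑ k : Fin (l e), ((if pathVert ends l e k.val = w then stepD ends l ψ e k.val else 0) -
        (if pathVert ends l e (k.val + 1) = w then stepD ends l ψ e k.val else 0)) := by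
  unfold mdeg
  rw [Fintype.sum_sigma]
  refine sum_congr rfl fun e _ => sum_congr rfl fun k _ => ?_
  simp only [blEnds, stepD, Nat.cast_one, Int.ediv_one]
  split_ifs <;> ring

theorem mdeg_inr (ψ : BlVert V E l → ℤ) (e : E) (i : Fin (l e - 1)) :
    mdeg (blEnds ends l) (fun _ => 1) ψ (Sum.inr ⟨e, i⟩) =
      stepD ends l ψ e (i.val + 1) - stepD ends l ψ e i.val := by
  have hi := i.isLt
  rw [mdeg_eq, Finset.sum_eq_single e]
  · rw [sum_sub_distrib, Finset.sum_eq_single ⟨i.val + 1, by omega⟩, Finset.sum_eq_single ⟨i.val, by omega⟩]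
    · rw [if_pos ((pathVert_eq_inr ends l e e _ i (by simp; omega)).2 ⟨rfl, rfl⟩),
        if_pos ((pathVert_eq_inr ends l e e _ i (by simp; omega)).2 ⟨rfl, rfl⟩)]
    · intro k _ hk
      have := k.isLt
      rw [if_neg]
      rw [pathVert_eq_inr ends l e e _ i (by omega)]
      rintro ⟨-, h⟩
      exact hk (Fin.ext (by simp; omega))
    · simp
    · intro k _ hk
      have := k.isLt
      rw [if_neg]
      rw [pathVert_eq_inr ends l e e _ i (by omega)]
      rintro ⟨-, h⟩
      exact hk (Fin.ext (by simp; omega))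
    · simp
  · intro e' _ he'
    refine sum_eq_zero fun k _ => ?_
    have := k.isLt
    rw [if_neg, if_neg, sub_zero] <;> rw [pathVert_eq_inr ends l e e' _ i (by omega)] <;> exact fun h => he' h.1
  · simp

theorem mdeg_inl (hl : ∀ e, 0 < l e) (ψ : BlVert V E l → ℤ) (v : V) :
    mdeg (blEnds ends l) (fun _ => 1) ψ (Sum.inl v) =
      ∑ e, ((if (ends e).1 = v then stepD ends l ψ e 0 else 0) -
        (if (ends e).2 = v then stepD ends l ψ e (l e - 1) else 0)) := by
  rw [mdeg_eq]
  refine sum_congr rfl fun e _ => ?_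
  have := hl e
  rw [sum_sub_distrib, Finset.sum_eq_single ⟨0, hl e⟩, Finset.sum_eq_single ⟨l e - 1, by omega⟩]
  · congr 1
    · simp [pathVert_zero]
    rw [show (⟨l e - 1, by omega⟩ : Fin (l e)).val + 1 = l e by simp; omega, pathVert_end ends l hl]
    simp
  · intro k _ hk
    have := k.isLt
    rw [if_neg]
    rw [pathVert_eq_inl ends l e _ v (by omega)]
    rintro (⟨h, -⟩ | ⟨-, h, -⟩)
    · omega
    · exact hk (Fin.ext (by simp; omega))
  · simp
  · intro k _ hk
    have := k.isLt
    rw [if_neg]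
    rw [pathVert_eq_inl ends l e _ v (by omega)]
    rintro (⟨h, -⟩ | ⟨-, h, -⟩)
    · exact hk (Fin.ext (by simpa using h))
    · omega
  · simp

/-- Prescribed values on old vertices and prescribed increments glue to a labelling of the blow-up. -/
theorem exists_labelling (hl : ∀ e, 0 < l e) (g : V → ℤ) (D : E → ℕ → ℤ)
    (hD : ∀ e, ∑ k ∈ range (l e), D e k = g (ends e).2 - g (ends e).1) :
    ∃ ψ : BlVert V E l → ℤ, (∀ v, ψ (Sum.inl v) = g v) ∧
      ∀ e k, k < l e → stepD ends l ψ e k = D e k := by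
  let ψ : BlVert V E l → ℤ := Sum.elim g (fun p => g (ends p.1).1 + ∑ k ∈ range (p.2.val + 1), D p.1 k)
  have hψ : ∀ e j, j ≤ l e → ψ (pathVert ends l e j) = g (ends e).1 + ∑ k ∈ range j, D e k := by
    intro e j hj
    rcases Nat.eq_zero_or_pos j with rfl | hj0
    · simp [pathVert_zero, ψ]
    · rcases hj.lt_or_eq with h | rfl
      · obtain ⟨i, rfl⟩ : ∃ i, j = i + 1 := ⟨j - 1, by omega⟩
        rw [pathVert_mid ends l e i h]; rfl
      · rw [pathVert_end ends l hl, hD]; simp [ψ]
  refine ⟨ψ, fun v => rfl, fun e k hk => ?_⟩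
  rw [stepD, hψ e (k + 1) hk, hψ e k hk.le, sum_range_succ]; ring

theorem sum_stepD (hl : ∀ e, 0 < l e) (ψ : BlVert V E l → ℤ) (e : E) :
    ∑ k ∈ range (l e), stepD ends l ψ e k = ψ (Sum.inl (ends e).2) - ψ (Sum.inl (ends e).1) := by
  rw [← pathVert_end ends l hl e, ← pathVert_zero ends l e]
  exact Finset.sum_range_sub (fun k => ψ (pathVert ends l e k)) (l e)

end Groth.Agent.GraphCochain
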